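import Groth.Agent.BlowUpLib.Cartier
import Groth.Agent.RZExt.Descend
import Groth.Agent.ModPairFrac.Prod
import Groth.Agent.Chow.Std
import Mathlib

/-!
Sections over the complement of a principal closed subscheme and the ideals of their denominators.
-/

set_option autoImplicit false
set_option linter.style.haveILetI false
set_option maxHeartbeats 1000000
set_option backward.isDefEq.respectTransparency false
set_option backward.isDefEq.respectTransparency.types false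
universe u

open CategoryTheory CategoryTheory.Limits AlgebraicGeometry TopologicalSpace

noncomputable section

namespace Groth.Agent.ExtLocus

variable {X Y Z : Scheme.{u}}

/-- restriction of functions -/
abbrev rs {V U : X.Opens} (h : V ≤ U) : Γ(X, U) →+* Γ(X, V) := (X.presheaf.map (homOfLE h).op).hom

/-- evaluation of functions -/
abbrev ev (f : X ⟶ Y) (U : Y.Opens) (W : X.Opens) (e : W ≤ f ⁻¹ᵁ U) : Γ(Y, U) →+* Γ(X, W) := (f.appLE U W e).hom

theorem ev_rs (f : X ⟶ Y) {U : Y.Opens} {W W' : X.Opens} (e : W ≤ f ⁻¹ᵁ U) (h : W' ≤ W) (x : Γ(Y, U)) :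
    rs h (ev f U W e x) = ev f U W' (h.trans e) x :=
  congr(($(Scheme.Hom.appLE_map f e (homOfLE h).op)).hom x)

theorem rs_ev (f : X ⟶ Y) {U U' : Y.Opens} {W : X.Opens} (h : U' ≤ U) (e : W ≤ f ⁻¹ᵁ U') (x : Γ(Y, U)) :
    ev f U' W e (rs h x) = ev f U W (e.trans fun _ hz => h hz) x :=
  congr(($(Scheme.Hom.map_appLE f e (homOfLE h).op)).hom x)

theorem ev_ev (f : X ⟶ Y) (g : Y ⟶ Z) {A : Z.Opens} {U : Y.Opens} {W : X.Opens} (e : W ≤ f ⁻¹ᵁ U) (e' : U ≤ g ⁻¹ᵁ A)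
    (x : Γ(Z, A)) : ev f U W e (ev g A U e' x) = ev (f ≫ g) A W (e.trans fun _ hz => e' hz) x :=
  congr(($(Scheme.Hom.appLE_comp_appLE f g A U W e' e)).hom x)

theorem ev_congr {f g : X ⟶ Y} (h : f = g) {U : Y.Opens} {W : X.Opens} (e : W ≤ f ⁻¹ᵁ U) (x : Γ(Y, U)) :
    ev f U W e x = ev g U W (h ▸ e) x := by
  subst h; rfl

theorem exists_pow_res {U V : X.Opens} (hU : IsAffineOpen U) (g : Γ(X, U)) (h : V ≤ U) (e : V = X.basicOpen g) :
    IsUnit (rs h g) ∧ (∀ z : Γ(X, V), ∃ (k : ℕ) (y : Γ(X, U)), rs h y = rs h g ^ k * z) ∧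
      ∀ y : Γ(X, U), rs h y = 0 → ∃ k : ℕ, g ^ k * y = 0 := by
  letI : Algebra Γ(X, U) Γ(X, V) := (rs h).toAlgebra
  haveI : IsLocalization.Away g Γ(X, V) := hU.isLocalization_of_eq_basicOpen g (homOfLE h) e
  refine ⟨IsLocalization.Away.algebraMap_isUnit g, fun z => ?_, fun y hy => ?_⟩
  · obtain ⟨k, y, hy⟩ := IsLocalization.Away.surj g z
    exact ⟨k, y, by rw [mul_comm]; exact hy.symm⟩
  · obtain ⟨⟨_, k, rfl⟩, hk⟩ := (IsLocalization.map_eq_zero_iff (Submonoid.powers g) Γ(X, V) y).1 hy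
    exact ⟨k, hk⟩

variable {I : X.IdealSheafData}

theorem nzd_of_span (hI : BlowUp.IsEffCartierIdeal I) {W : X.affineOpens} {h : Γ(X, W.1)}
    (he : I.ideal W = Ideal.span {h}) : h ∈ nonZeroDivisors Γ(X, W.1) := by
  rw [mem_nonZeroDivisors_iff_left]
  intro z hz
  choose V hxV hVW c hc hec using fun x : W.1 => BlowUpLib.exists_small_generator hI (O := W.1) x.2
  refine TopCat.Sheaf.eq_of_locally_eq' X.sheaf (fun x => (V x).1) W.1 (fun x => homOfLE (hVW x))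
    (fun x hx => Opens.mem_iSup.2 ⟨⟨x, hx⟩, hxV ⟨x, hx⟩⟩) _ _ fun x => ?_
  rw [map_zero]
  have h2 : Ideal.span {rs (hVW x) h} = Ideal.span {c x} := by
    rw [← hec x, ← I.map_ideal (show V x ≤ W from hVW x), he, Ideal.map_span, Set.image_singleton]
    rfl
  obtain ⟨u, hu⟩ := Ideal.mem_span_singleton'.1 (h2.ge (Ideal.subset_span rfl))
  refine (mem_nonZeroDivisors_iff_left.1 (hc x)) _ ?_
  change c x * rs (hVW x) z = 0
  rw [← hu, mul_assoc, ← map_mul, hz, map_zero, mul_zero]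

section Compl

variable {Q : X.Opens} (hQ : Q = I.support.compl)
include hQ

theorem compl_inf_eq (W : X.affineOpens) {h : Γ(X, W.1)} (he : I.ideal W = Ideal.span {h}) :
    Q ⊓ W.1 = X.basicOpen h := by
  refine Opens.ext (Set.ext fun x => ?_)
  have h1 := I.coe_support_inter W
  rw [he, Scheme.zeroLocus_span, Scheme.zeroLocus_singleton] at h1
  constructor
  · rintro ⟨hxQ, hxW⟩
    by_contra hx
    have : x ∈ (I.support : Set X) ∩ W.1 := by rw [h1]; exact ⟨hx, hxW⟩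
    rw [hQ] at hxQ
    exact hxQ this.1
  · intro hx
    refine ⟨?_, X.basicOpen_le h hx⟩
    rw [hQ]
    intro hxI
    have : x ∈ (I.support : Set X) ∩ W.1 := ⟨hxI, X.basicOpen_le h hx⟩
    rw [h1] at this
    exact this.1 hx

theorem isAffineOpen_preimage_of_span (W : X.affineOpens) {h : Γ(X, W.1)} (he : I.ideal W = Ideal.span {h}) :
    IsAffineOpen (Q.ι ⁻¹ᵁ W.1) := by
  rw [← Scheme.Hom.isAffineOpen_iff_of_isOpenImmersion Q.ι, Scheme.Hom.image_preimage_eq_opensRange_inf,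
    Scheme.Opens.opensRange_ι, compl_inf_eq hQ W he]
  exact W.2.basicOpen h

theorem isAffineHom_ι (hI : BlowUp.IsEffCartierIdeal I) : IsAffineHom Q.ι := by
  choose V hxV f hf he using hI
  refine (IsZariskiLocalAtTarget.iff_of_iSup_eq_top (P := @IsAffineHom) (fun x => (V x).1)
    (eq_top_iff.2 fun x _ => Opens.mem_iSup.2 ⟨x, hxV x⟩)).2 fun x => ?_
  haveI : IsAffine (Q.ι ⁻¹ᵁ (V x).1).toScheme := isAffineOpen_preimage_of_span hQ (V x) (he x)
  haveI : IsAffine (V x).1.toScheme := (V x).2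
  infer_instance

theorem rho_facts (W : X.affineOpens) {h : Γ(X, W.1)} (he : I.ideal W = Ideal.span {h}) :
    IsUnit (ev Q.ι W.1 (Q.ι ⁻¹ᵁ W.1) le_rfl h) ∧
      (∀ z, ∃ (k : ℕ) (b : Γ(X, W.1)), ev Q.ι W.1 (Q.ι ⁻¹ᵁ W.1) le_rfl b = ev Q.ι W.1 (Q.ι ⁻¹ᵁ W.1) le_rfl h ^ k * z) ∧
      (h ∈ nonZeroDivisors Γ(X, W.1) → Function.Injective (ev Q.ι W.1 (Q.ι ⁻¹ᵁ W.1) le_rfl)) := by
  have e : Q.ι ''ᵁ (Q.ι ⁻¹ᵁ W.1) = X.basicOpen h := by
    rw [Scheme.Hom.image_preimage_eq_opensRange_inf, Scheme.Opens.opensRange_ι, compl_inf_eq hQ W he]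
  have hle : Q.ι ''ᵁ (Q.ι ⁻¹ᵁ W.1) ≤ W.1 := e.le.trans (X.basicOpen_le h)
  have hev : ∀ b, ev Q.ι W.1 (Q.ι ⁻¹ᵁ W.1) le_rfl b = rs hle b := fun b => by
    change (Q.ι.appLE W.1 (Q.ι ⁻¹ᵁ W.1) le_rfl).hom b = _
    rw [Scheme.Opens.ι_appLE]
    rfl
  obtain ⟨h1, h2, h3⟩ := exists_pow_res W.2 h hle e
  refine ⟨by rw [hev]; exact h1, fun z => ?_, fun hh => (injective_iff_map_eq_zero _).2 fun b hb => ?_⟩
  · obtain ⟨k, y, hy⟩ := h2 z
    exact ⟨k, y, by rw [hev, hev]; exact hy⟩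
  · rw [hev] at hb
    obtain ⟨k, hk⟩ := h3 b hb
    exact mem_nonZeroDivisors_iff_left.1 (pow_mem hh k) b hk

theorem schDominant (hI : BlowUp.IsEffCartierIdeal I) (W : X.Opens) :
    IsSchemeTheoreticallyDominant (X.homOfLE (inf_le_right : Q ⊓ W ≤ W)) := by
  subst hQ
  exact ModPairFrac.schDominant_homOfLE I hI W

end Compl

end Groth.Agent.ExtLocus
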