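import Groth.Agent.ExtLocus.Main

/-!
The extension locus of a section is a closed subscheme of the base.
-/

set_option autoImplicit false
set_option linter.style.haveILetI false
set_option maxHeartbeats 1000000
set_option backward.isDefEq.respectTransparency false
set_option backward.isDefEq.respectTransparency.types false
universe u

open CategoryTheory CategoryTheory.Limits AlgebraicGeometry TopologicalSpace

noncomputable section

namespace Groth.Agent.ExtLocus

theorem flat_quot_pow {R A : Type u} [CommRing R] [CommRing A] [Algebra R A] {h : A} (hh : h ∈ nonZeroDivisors A)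
    (hfl : Module.Flat R (A ⧸ Ideal.span {h})) : ∀ n : ℕ, Module.Flat R (A ⧸ Ideal.span {h ^ n}) := by
  intro n
  induction n with
  | zero =>
    haveI : Subsingleton (A ⧸ Ideal.span {h ^ 0}) := Ideal.Quotient.subsingleton_iff.2 (by simp)
    infer_instance
  | succ n ih =>
    let f : (A ⧸ Ideal.span {h}) →ₗ[R] A ⧸ Ideal.span {h ^ (n + 1)} :=
      (Submodule.mapQ (Ideal.span {h}) (Ideal.span {h ^ (n + 1)}) (LinearMap.mulLeft A (h ^ n)) (by
        intro x hx
        obtain ⟨c, rfl⟩ := Ideal.mem_span_singleton'.1 hx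
        exact Ideal.mem_span_singleton'.2 ⟨c, by simp [pow_succ]; ring⟩)).restrictScalars R
    let g : (A ⧸ Ideal.span {h ^ (n + 1)}) →ₗ[R] A ⧸ Ideal.span {h ^ n} :=
      (Submodule.mapQ (Ideal.span {h ^ (n + 1)}) (Ideal.span {h ^ n}) LinearMap.id (by
        intro x hx
        obtain ⟨c, rfl⟩ := Ideal.mem_span_singleton'.1 hx
        exact Ideal.mem_span_singleton'.2 ⟨c * h, by simp [pow_succ]; ring⟩)).restrictScalars R
    haveI := ih
    haveI := hfl
    refine Groth.Agent.S2361.flat_extension f g ?_ ?_ ?_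
    · refine (injective_iff_map_eq_zero f).2 fun z hz => ?_
      obtain ⟨x, rfl⟩ := Submodule.Quotient.mk_surjective _ z
      have h1 : h ^ n * x ∈ Ideal.span {h ^ (n + 1)} := (Submodule.Quotient.mk_eq_zero _).1 hz
      obtain ⟨c, hc⟩ := Ideal.mem_span_singleton'.1 h1
      refine (Submodule.Quotient.mk_eq_zero _).2 (Ideal.mem_span_singleton'.2 ⟨c, ?_⟩)
      exact (mul_cancel_left_mem_nonZeroDivisors (pow_mem hh n)).1 (by rw [← hc, pow_succ]; ring)
    · intro z
      obtain ⟨x, rfl⟩ := Submodule.Quotient.mk_surjective _ z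
      constructor
      · intro hz
        obtain ⟨c, hc⟩ := Ideal.mem_span_singleton'.1 ((Submodule.Quotient.mk_eq_zero _).1 hz)
        refine ⟨Submodule.Quotient.mk c, ?_⟩
        change Submodule.Quotient.mk (h ^ n * c) = _
        rw [mul_comm, hc]
        rfl
      · rintro ⟨w, hw⟩
        obtain ⟨c, rfl⟩ := Submodule.Quotient.mk_surjective _ w
        rw [← hw]
        exact (Submodule.Quotient.mk_eq_zero _).2 (Ideal.mem_span_singleton'.2 ⟨c, by simp [mul_comm]⟩)
    · intro z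
      obtain ⟨x, rfl⟩ := Submodule.Quotient.mk_surjective _ z
      exact ⟨Submodule.Quotient.mk x, rfl⟩

variable {P S : Scheme.{u}} (q : P ⟶ S) {I : P.IdealSheafData} (hI : BlowUp.IsEffCartierIdeal I)
include hI

theorem flat_pow [Flat (I.subschemeι ≫ q)] (n : ℕ) : Flat ((I ^ n).subschemeι ≫ q) := by
  have key : ∀ x : P, ∃ (V : S.affineOpens) (W : P.affineOpens) (h : Γ(P, W.1)), x ∈ W.1 ∧ W.1 ≤ q ⁻¹ᵁ V.1 ∧
      h ∈ nonZeroDivisors Γ(P, W.1) ∧ I.ideal W = Ideal.span {h} := fun x => by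
    obtain ⟨V, hV, hxV, -⟩ := exists_isAffineOpen_mem_and_subset (X := S) (x := q x) (U := ⊤) trivial
    obtain ⟨W, hxW, hWV, h, hh, he⟩ := BlowUpLib.exists_small_generator hI (O := q ⁻¹ᵁ V) (x := x) hxV
    exact ⟨⟨V, hV⟩, W, h, hxW, hWV, hh, he⟩
  choose V W h hxW hWV hh he using key
  let ι := (I ^ n).subschemeι
  refine (IsZariskiLocalAtSource.iff_of_iSup_eq_top (P := @Flat) (fun x => ι ⁻¹ᵁ (W x).1)
    (eq_top_iff.2 fun z _ => Opens.mem_iSup.2 ⟨ι z, hxW _⟩)).2 fun x => ?_
  have hA : IsAffineOpen (ι ⁻¹ᵁ (W x).1) := (W x).2.preimage ι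
  have e : ι ⁻¹ᵁ (W x).1 ≤ (ι ≫ q) ⁻¹ᵁ (V x).1 := fun z hz => hWV x hz
  rw [← hA.isoSpec_hom_fromSpec, Category.assoc, ← IsAffineOpen.SpecMap_appLE_fromSpec (ι ≫ q) (V x).2 hA e]
  have hflat : ((ι ≫ q).appLE (V x).1 (ι ⁻¹ᵁ (W x).1) e).hom.Flat := by
    letI : Algebra Γ(S, (V x).1) Γ(P, (W x).1) := (q.appLE (V x).1 (W x).1 (hWV x)).hom.toAlgebra
    have h1 : Module.Flat Γ(S, (V x).1) (Γ(P, (W x).1) ⧸ Ideal.span {h x}) := by
      let κ := I.subschemeι
      have hsurj : Function.Surjective (κ.app (W x).1).hom := I.subschemeι_app_surjective (W x)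
      have hker : RingHom.ker (κ.app (W x).1).hom = Ideal.span {h x} := (I.ker_subschemeι_app (W x)).trans (he x)
      let e' := (Ideal.quotEquivOfEq hker.symm).trans (RingHom.quotientKerEquivOfSurjective hsurj)
      have h2 := (κ ≫ q).flat_appLE (V x).2 ((W x).2.preimage κ) (show κ ⁻¹ᵁ (W x).1 ≤ (κ ≫ q) ⁻¹ᵁ (V x).1 from
        fun z hz => hWV x hz)
      have h3 : ((κ ≫ q).appLE (V x).1 (κ ⁻¹ᵁ (W x).1) (fun z hz => hWV x hz)).hom =
          e'.toRingHom.comp ((Ideal.Quotient.mk (Ideal.span {h x})).comp (q.appLE (V x).1 (W x).1 (hWV x)).hom) := by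
        rw [← Scheme.Hom.appLE_comp_appLE κ q (V x).1 (W x).1 (κ ⁻¹ᵁ (W x).1) (hWV x) le_rfl, ← Scheme.Hom.app_eq_appLE]
        rfl
      rw [h3] at h2
      have h4 := RingHom.Flat.comp h2 (.of_bijective (f := e'.symm.toRingHom) e'.symm.bijective)
      refine RingHom.flat_algebraMap_iff.1 ?_
      convert h4 using 1
      ext z
      exact (e'.symm_apply_apply _).symm
    have h5 := flat_quot_pow (hh x) h1 n
    have hsurj : Function.Surjective (ι.app (W x).1).hom := (I ^ n).subschemeι_app_surjective (W x)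
    have hker : RingHom.ker (ι.app (W x).1).hom = Ideal.span {h x ^ n} :=
      ((I ^ n).ker_subschemeι_app (W x)).trans (ideal_pow_span (he x) n)
    let e' := (Ideal.quotEquivOfEq hker.symm).trans (RingHom.quotientKerEquivOfSurjective hsurj)
    have h3 : ((ι ≫ q).appLE (V x).1 (ι ⁻¹ᵁ (W x).1) e).hom =
        e'.toRingHom.comp ((Ideal.Quotient.mk (Ideal.span {h x ^ n})).comp (q.appLE (V x).1 (W x).1 (hWV x)).hom) := by
      rw [← Scheme.Hom.appLE_comp_appLE ι q (V x).1 (W x).1 (ι ⁻¹ᵁ (W x).1) (hWV x) le_rfl, ← Scheme.Hom.app_eq_appLE]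
      rfl
    rw [h3]
    exact RingHom.Flat.comp (RingHom.flat_algebraMap_iff.2 h5) (.of_bijective e'.bijective)
  haveI : Flat (Spec.map ((ι ≫ q).appLE (V x).1 (ι ⁻¹ᵁ (W x).1) e)) := (HasRingHomProperty.Spec_iff (P := @Flat)).2 hflat
  infer_instance

theorem lfp_pow (n : ℕ) : LocallyOfFinitePresentation (I ^ n).subschemeι := by
  refine GrpdFit.lfp_subschemeι _ fun x => ?_
  obtain ⟨U, hxU, h, -, he⟩ := hI x
  exact ⟨U, hxU, by rw [ideal_pow_span he]; exact Submodule.fg_span_singleton _⟩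

variable {Y : Scheme.{u}} (p : Y ⟶ P) [IsAffineHom p] [LocallyOfFiniteType p] {Q : P.Opens} (hQ : Q = I.support.compl)
  (s : (Q : Scheme.{u}) ⟶ Y) (hs : s ≫ p = Q.ι) [IsProper q] [LocallyOfFinitePresentation q] [Flat (I.subschemeι ≫ q)]
include hQ hs

/-- **The extension locus.** -/
theorem exists_closedImmersion :
    ∃ (Z : Scheme.{u}) (i : Z ⟶ S), IsClosedImmersion i ∧
      ∀ (T : Scheme.{u}) (g : T ⟶ S), IsAffine T →
        ((∃ h : T ⟶ Z, h ≫ i = g) ↔
          ∃ f : pullback q g ⟶ Y, f ≫ p = pullback.fst q g ∧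
            ((pullback.fst q g) ⁻¹ᵁ Q).ι ≫ f = ((pullback.fst q g) ∣_ Q) ≫ s) := by
  haveI : IsAffineHom Q.ι := isAffineHom_ι hQ hI
  have hn : ∀ n, ∃ (Z : Scheme.{u}) (i : Z ⟶ S), IsClosedImmersion i ∧
      ∀ (T : Scheme.{u}) (g : T ⟶ S), (∃ h : T ⟶ Z, h ≫ i = g) ↔
        (denom p s hs I n).comap (pullback.fst q g) ≤ (I ^ n).comap (pullback.fst q g) := fun n => by
    haveI := flat_pow q hI n
    haveI := lfp_pow hI n
    obtain ⟨Z, i, hi, hZ⟩ := VanLocus.exists_weilClosed ((I ^ n).subschemeι ≫ q) ((denom p s hs I n).comap (I ^ n).subschemeι)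
    refine ⟨Z, i, hi, fun T g => (hZ T g).trans ?_⟩
    let ι := (I ^ n).subschemeι
    let π := pullback.fst q g
    let j : pullback (ι ≫ q) g ⟶ pullback q g :=
      pullback.map (ι ≫ q) g q g ι (𝟙 T) (𝟙 S) (by simp) (by simp)
    have sq : IsPullback (pullback.fst (ι ≫ q) g) j ι π := by
      refine (IsPullback.of_bot ?_ (by simp [j, π]) (IsPullback.of_hasPullback q g).flip.flip).flip.flip
      simpa [j, π] using IsPullback.of_hasPullback (ι ≫ q) g
    have hker : j.ker = (I ^ n).comap π := by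
      have h1 : j = sq.flip.isoPullback.hom ≫ pullback.fst π ι := (sq.flip.isoPullback_hom_fst).symm
      rw [h1, Scheme.Hom.ker_comp_of_isIso, Scheme.IdealSheafData.ker_fst_of_isClosedImmersion,
        Scheme.IdealSheafData.ker_subschemeι]
    have hcomp : pullback.fst (ι ≫ q) g ≫ ι = j ≫ π := sq.w
    rw [← Scheme.IdealSheafData.comap_comp, hcomp, Scheme.IdealSheafData.comap_comp]
    constructor
    · intro h
      rw [← hker, ← Scheme.IdealSheafData.map_bot, Scheme.IdealSheafData.le_map_iff_comap_le, h]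
    · intro h
      rw [← hker, ← Scheme.IdealSheafData.map_bot, Scheme.IdealSheafData.le_map_iff_comap_le, le_bot_iff] at h
      exact h
  choose Z i hi hZ using hn
  let J : S.IdealSheafData := ⨆ n, (i n).ker
  refine ⟨J.subscheme, J.subschemeι, inferInstance, fun T g hT => ?_⟩
  have hfac : (∃ h : T ⟶ J.subscheme, h ≫ J.subschemeι = g) ↔ ∀ n, ∃ h : T ⟶ Z n, h ≫ i n = g := by
    constructor
    · rintro ⟨h, rfl⟩ n
      haveI := hi n
      have hle : (i n).ker ≤ (h ≫ J.subschemeι).ker :=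
        ((le_iSup (fun n => (i n).ker) n).trans (Scheme.IdealSheafData.ker_subschemeι J).ge).trans (Scheme.Hom.le_ker_comp h _)
      exact ⟨IsClosedImmersion.lift (i n) _ hle, IsClosedImmersion.lift_fac _ _ hle⟩
    · intro hh
      have hle : J.subschemeι.ker ≤ g.ker := by
        rw [Scheme.IdealSheafData.ker_subschemeι]
        refine iSup_le fun n => ?_
        obtain ⟨h, rfl⟩ := hh n
        exact Scheme.Hom.le_ker_comp h _
      exact ⟨IsClosedImmersion.lift J.subschemeι g hle, IsClosedImmersion.lift_fac _ _ hle⟩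
  rw [hfac]
  have hc : BlowUp.IsEffCartierIdeal (I.comap (pullback.fst q g)) := Groth.Agent.S1662.result q I hI g
  haveI : CompactSpace T := inferInstance
  haveI : CompactSpace ↥(pullback q g) := QuasiCompact.compactSpace_of_compactSpace (pullback.snd q g)
  constructor
  · intro h
    exact exists_extension p s hs hI hQ (pullback.fst q g) hc fun n => (hZ n T g).1 (h n)
  · rintro ⟨f, hf, hfQ⟩ n
    exact (hZ n T g).2 (denom_le p s hs hI hQ (pullback.fst q g) hc f hf hfQ n)

end Groth.Agent.ExtLocus
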