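import Groth.Agent.ExtLocus.Gen
import Groth.Agent.VanLocus.Weil
import Groth.Agent.S1662
import Groth.Agent.S2361
import Groth.Agent.GrpdFit.Ideal
import Groth.Agent.ThickSys.Sheaf
import Groth.Agent.FpqcDescent.IdealGlue
import Groth.Prelude.Def_FGA

/-!
The locus over which a section defined outside a relative effective Cartier divisor extends.
-/

set_option autoImplicit false
set_option linter.style.haveILetI false
set_option maxHeartbeats 1000000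
set_option backward.isDefEq.respectTransparency false
set_option backward.isDefEq.respectTransparency.types false
universe u

open CategoryTheory CategoryTheory.Limits AlgebraicGeometry TopologicalSpace

noncomputable section

namespace Groth.Agent.ExtLocus

variable {P Y : Scheme.{u}} (p : Y ⟶ P) {Q : P.Opens} (s : (Q : Scheme.{u}) ⟶ Y) (hs : s ≫ p = Q.ι)

include hs in
theorem le_preimage (W : P.Opens) : Q.ι ⁻¹ᵁ W ≤ s ⁻¹ᵁ (p ⁻¹ᵁ W) := by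
  rw [← Scheme.Hom.comp_preimage, hs]

include hs in
theorem sigma_p (W : P.Opens) (x : Γ(P, W)) :
    ev s (p ⁻¹ᵁ W) (Q.ι ⁻¹ᵁ W) (le_preimage p s hs W) (ev p W (p ⁻¹ᵁ W) le_rfl x) = ev Q.ι W (Q.ι ⁻¹ᵁ W) le_rfl x := by
  rw [ev_ev, ev_congr hs]

/-- the generators of the ideal of denominators of order `n` -/
def gens (I : P.IdealSheafData) (n : ℕ) (W : P.affineOpens) : Set Γ(P, W.1) :=
  {b | ∃ e ∈ (I ^ n).ideal W, ∃ a : Γ(Y, p ⁻¹ᵁ W.1),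
    ev Q.ι W.1 (Q.ι ⁻¹ᵁ W.1) le_rfl b =
      ev Q.ι W.1 (Q.ι ⁻¹ᵁ W.1) le_rfl e * ev s (p ⁻¹ᵁ W.1) (Q.ι ⁻¹ᵁ W.1) (le_preimage p s hs W.1) a}

variable [IsAffineHom p] [IsAffineHom Q.ι]

/-- the ideal sheaf of denominators of order `n` -/
def denom (I : P.IdealSheafData) (n : ℕ) : P.IdealSheafData where
  ideal W := Ideal.span (gens p s hs I n W)
  map_ideal_basicOpen := fun U g => by
    let V := P.affineBasicOpen g
    have hVU : V.1 ≤ U.1 := P.basicOpen_le g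
    let r : Γ(P, U.1) →+* Γ(P, V.1) := rs hVU
    have hA : p ⁻¹ᵁ V.1 ≤ p ⁻¹ᵁ U.1 := fun _ hz => hVU hz
    have hL : Q.ι ⁻¹ᵁ V.1 ≤ Q.ι ⁻¹ᵁ U.1 := fun _ hz => hVU hz
    have hρ : ∀ x, rs hL (ev Q.ι U.1 (Q.ι ⁻¹ᵁ U.1) le_rfl x) = ev Q.ι V.1 (Q.ι ⁻¹ᵁ V.1) le_rfl (r x) := fun x => by
      rw [ev_rs, rs_ev]
    have hσ : ∀ a, rs hL (ev s (p ⁻¹ᵁ U.1) (Q.ι ⁻¹ᵁ U.1) (le_preimage p s hs U.1) a) =
        ev s (p ⁻¹ᵁ V.1) (Q.ι ⁻¹ᵁ V.1) (le_preimage p s hs V.1) (rs hA a) := fun a => by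
      rw [ev_rs, rs_ev]
    change (Ideal.span (gens p s hs I n U)).map r = Ideal.span (gens p s hs I n V)
    refine le_antisymm ?_ ?_
    · rw [Ideal.map_span, Ideal.span_le]
      rintro _ ⟨b, ⟨e, he, a, hb⟩, rfl⟩
      refine Ideal.subset_span ⟨r e, ?_, rs hA a, ?_⟩
      · rw [← (I ^ n).map_ideal_basicOpen U g]
        exact Ideal.mem_map_of_mem _ he
      · rw [← hρ, hb, map_mul, hρ, hσ]
    · rw [Ideal.span_le]
      rintro b' ⟨e', he', a', hb'⟩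
      obtain ⟨hgu, hgs, -⟩ := exists_pow_res U.2 g hVU rfl
      obtain ⟨-, hAs, -⟩ := exists_pow_res (U.2.preimage p) ((p.app U.1).hom g) hA (Scheme.preimage_basicOpen p g)
      obtain ⟨-, -, hL3⟩ := exists_pow_res (U.2.preimage Q.ι) ((Q.ι.app U.1).hom g) hL (Scheme.preimage_basicOpen Q.ι g)
      obtain ⟨j, b₀, hb₀⟩ := hgs b'
      obtain ⟨l, a₀, ha₀⟩ := hAs a'
      obtain ⟨m, e₀, he₀, hem⟩ : ∃ (m : ℕ) (e₀ : Γ(P, U.1)), e₀ ∈ (I ^ n).ideal U ∧ r e₀ = r g ^ m * e' := by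
        letI : Algebra Γ(P, U.1) Γ(P, V.1) := r.toAlgebra
        haveI : IsLocalization.Away g Γ(P, V.1) := U.2.isLocalization_of_eq_basicOpen g (homOfLE hVU) rfl
        rw [← (I ^ n).map_ideal_basicOpen U g] at he'
        obtain ⟨⟨⟨e₀, he₀⟩, ⟨_, m, rfl⟩⟩, hm⟩ := (IsLocalization.mem_map_algebraMap_iff (Submonoid.powers g) Γ(P, V.1)).1 he'
        exact ⟨m, e₀, he₀, by rw [mul_comm]; exact (hm.symm.trans (by rw [map_pow]; rfl))⟩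
      have hσg : ev s (p ⁻¹ᵁ U.1) (Q.ι ⁻¹ᵁ U.1) (le_preimage p s hs U.1) ((p.app U.1).hom g) =
          ev Q.ι U.1 (Q.ι ⁻¹ᵁ U.1) le_rfl g := by
        rw [← sigma_p p s hs U.1 g]
        congr 2
        rw [Scheme.Hom.app_eq_appLE]
      let b₁ := b₀ * g ^ (m + l)
      let e₁ := e₀ * g ^ j
      obtain ⟨N, hN⟩ := hL3 (ev Q.ι U.1 (Q.ι ⁻¹ᵁ U.1) le_rfl b₁ -
          ev Q.ι U.1 (Q.ι ⁻¹ᵁ U.1) le_rfl e₁ * ev s (p ⁻¹ᵁ U.1) (Q.ι ⁻¹ᵁ U.1) (le_preimage p s hs U.1) a₀) (by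
        rw [map_sub, sub_eq_zero, hρ b₁, map_mul (rs hL), hρ e₁, hσ, ha₀]
        simp only [b₁, e₁, map_mul, map_pow, show r b₀ = r g ^ j * b' from hb₀, hem, hb']
        have : ev s (p ⁻¹ᵁ V.1) (Q.ι ⁻¹ᵁ V.1) (le_preimage p s hs V.1) (rs hA ((p.app U.1).hom g)) =
            ev Q.ι V.1 (Q.ι ⁻¹ᵁ V.1) le_rfl (r g) := by rw [← hσ, hσg, hρ]
        rw [this]
        ring)
      have hmem : b₁ * g ^ N ∈ gens p s hs I n U := by
        refine ⟨e₁ * g ^ N, Ideal.mul_mem_right _ _ (Ideal.mul_mem_right _ _ he₀), a₀, ?_⟩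
        rw [map_mul _ b₁, map_mul _ e₁, map_pow]
        have hg' : (Q.ι.app U.1).hom g = ev Q.ι U.1 (Q.ι ⁻¹ᵁ U.1) le_rfl g := by
          change _ = (Q.ι.appLE U.1 (Q.ι ⁻¹ᵁ U.1) le_rfl).hom g
          rw [← Scheme.Hom.app_eq_appLE]
        rw [hg', mul_sub, sub_eq_zero] at hN
        linear_combination hN
      have h1 : r (b₁ * g ^ N) ∈ (Ideal.span (gens p s hs I n U)).map r := Ideal.mem_map_of_mem _ (Ideal.subset_span hmem)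
      have h2 : r (b₁ * g ^ N) = r g ^ (j + (m + l) + N) * b' := by
        simp only [b₁, map_mul, map_pow]
        rw [show r b₀ = r g ^ j * b' from hb₀]
        ring
      rw [h2] at h1
      exact ((Ideal.map r _).unit_mul_mem_iff_mem (hgu.pow _)).1 h1

theorem mem_denom {I : P.IdealSheafData} {n : ℕ} {W : P.affineOpens} {b e : Γ(P, W.1)} (he : e ∈ (I ^ n).ideal W)
    {a : Γ(Y, p ⁻¹ᵁ W.1)} (h : ev Q.ι W.1 (Q.ι ⁻¹ᵁ W.1) le_rfl b =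
      ev Q.ι W.1 (Q.ι ⁻¹ᵁ W.1) le_rfl e * ev s (p ⁻¹ᵁ W.1) (Q.ι ⁻¹ᵁ W.1) (le_preimage p s hs W.1) a) :
    b ∈ (denom p s hs I n).ideal W :=
  Ideal.subset_span ⟨e, he, a, h⟩

theorem le_of_cover {X : Scheme.{u}} {J K : X.IdealSheafData} {κ : Type*} (W : κ → X.affineOpens)
    (hW : ∀ x, ∃ i, x ∈ (W i).1) (h : ∀ i, J.ideal (W i) ≤ K.ideal (W i)) : J ≤ K :=
  sup_eq_right.1 (Scheme.IdealSheafData.ext_of_iSup_eq_top W
    (eq_top_iff.2 fun x _ => Opens.mem_iSup.2 (hW x)) fun i => by simp [h i])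

theorem ideal_pow_span {X : Scheme.{u}} {J : X.IdealSheafData} {W : X.affineOpens} {h : Γ(X, W.1)}
    (he : J.ideal W = Ideal.span {h}) (n : ℕ) : (J ^ n).ideal W = Ideal.span {h ^ n} := by
  rw [Scheme.IdealSheafData.ideal_pow, Pi.pow_apply, he, Ideal.span_singleton_pow]

section Map

variable {I : P.IdealSheafData} (hI : BlowUp.IsEffCartierIdeal I) (hQ : Q = I.support.compl)
  {P' : Scheme.{u}} (π : P' ⟶ P) (hc : BlowUp.IsEffCartierIdeal (I.comap π))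
include hI hQ hc

omit hI hc [IsAffineHom p] [IsAffineHom Q.ι] in
theorem preimage_Q : π ⁻¹ᵁ Q = (I.comap π).support.compl := by
  subst hQ
  refine Opens.ext (Set.ext fun x => ?_)
  simp [Scheme.IdealSheafData.support_comap]

omit [IsAffineHom Q.ι] in
/-- if the section extends, the denominators are absorbed -/
theorem denom_le [IsAffineHom Q.ι] (f : P' ⟶ Y) (hf : f ≫ p = π)
    (hfQ : (π ⁻¹ᵁ Q).ι ≫ f = (π ∣_ Q) ≫ s) (n : ℕ) :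
    (denom p s hs I n).comap π ≤ (I ^ n).comap π := by
  have key : ∀ x : P', ∃ (W : P.affineOpens) (V : P'.affineOpens) (c : Γ(P', V.1)), x ∈ V.1 ∧ V.1 ≤ π ⁻¹ᵁ W.1 ∧
      c ∈ nonZeroDivisors Γ(P', V.1) ∧ (I.comap π).ideal V = Ideal.span {c} := fun x => by
    obtain ⟨W, hxW, -⟩ := hI (π x)
    obtain ⟨V, hxV, hVW, c, hc1, hc2⟩ := BlowUpLib.exists_small_generator hc (O := π ⁻¹ᵁ W.1) (x := x) hxW
    exact ⟨W, V, c, hxV, hVW, hc1, hc2⟩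
  choose W V c hxV hVW hc1 hc2 using key
  refine le_of_cover V (fun x => ⟨x, hxV x⟩) fun x => ?_
  rw [FpqcDescent.ideal_comap_appLE _ π (W x) (V x) (hVW x), FpqcDescent.ideal_comap_appLE _ π (W x) (V x) (hVW x)]
  refine Ideal.map_le_iff_le_comap.2 (Ideal.span_le.2 ?_)
  rintro b ⟨e, he, a, hb⟩
  let Q' := π ⁻¹ᵁ Q
  let L := Q'.ι ⁻¹ᵁ (V x).1
  have hL : L ≤ (π ∣_ Q) ⁻¹ᵁ (Q.ι ⁻¹ᵁ (W x).1) := by
    rw [← Scheme.Hom.comp_preimage, morphismRestrict_ι, Scheme.Hom.comp_preimage]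
    exact fun z hz => hVW x hz
  have hV' : (V x).1 ≤ f ⁻¹ᵁ (p ⁻¹ᵁ (W x).1) := by
    rw [← Scheme.Hom.comp_preimage, hf]
    exact hVW x
  have hρ : ∀ z, ev (π ∣_ Q) _ L hL (ev Q.ι (W x).1 (Q.ι ⁻¹ᵁ (W x).1) le_rfl z) =
      ev Q'.ι (V x).1 L le_rfl (ev π (W x).1 (V x).1 (hVW x) z) := fun z => by
    rw [ev_ev, ev_ev, ev_congr (morphismRestrict_ι π Q)]
  have hσ : ev (π ∣_ Q) _ L hL (ev s (p ⁻¹ᵁ (W x).1) (Q.ι ⁻¹ᵁ (W x).1) (le_preimage p s hs (W x).1) a) =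
      ev Q'.ι (V x).1 L le_rfl (ev f (p ⁻¹ᵁ (W x).1) (V x).1 hV' a) := by
    rw [ev_ev, ev_ev, ev_congr hfQ]
  have hinj := (rho_facts (preimage_Q hQ π) (V x) (hc2 x)).2.2 (hc1 x)
  have h2 : ev π (W x).1 (V x).1 (hVW x) b =
      ev π (W x).1 (V x).1 (hVW x) e * ev f (p ⁻¹ᵁ (W x).1) (V x).1 hV' a := hinj (by
    rw [map_mul, ← hρ, ← hρ, ← hσ, ← map_mul, hb])
  suffices hh : ev π (W x).1 (V x).1 (hVW x) b ∈ ((I ^ n).ideal (W x)).map (ev π (W x).1 (V x).1 (hVW x)) from hh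
  rw [h2]
  exact Ideal.mul_mem_right _ _ (Ideal.mem_map_of_mem _ he)

/-- on a small affine, absorbed denominators give an extension -/
theorem exists_local [LocallyOfFiniteType p] (W : P.affineOpens) {h : Γ(P, W.1)} (he : I.ideal W = Ideal.span {h}) :
    ∃ n₀ : ℕ, ∀ n ≥ n₀, ∀ (V : P'.affineOpens) (hV : V.1 ≤ π ⁻¹ᵁ W.1),
      (denom p s hs I n).comap π ≤ (I ^ n).comap π →
      ∃ f : V.1.toScheme ⟶ Y, f ≫ p = V.1.ι ≫ π ∧
        P'.homOfLE (inf_le_right : π ⁻¹ᵁ Q ⊓ V.1 ≤ V.1) ≫ f =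
          P'.homOfLE (inf_le_left : π ⁻¹ᵁ Q ⊓ V.1 ≤ π ⁻¹ᵁ Q) ≫ (π ∣_ Q) ≫ s := by
  classical
  let A := ↑Γ(Y, p ⁻¹ᵁ W.1)
  letI : Algebra Γ(P, W.1) A := (ev p W.1 (p ⁻¹ᵁ W.1) le_rfl).toAlgebra
  haveI : Algebra.FiniteType Γ(P, W.1) A := p.finiteType_appLE W.2 (W.2.preimage p) le_rfl
  obtain ⟨G, hG⟩ := Algebra.FiniteType.out (R := Γ(P, W.1)) (A := A)
  obtain ⟨hu, hsur, -⟩ := rho_facts hQ W he
  let ρ := ev Q.ι W.1 (Q.ι ⁻¹ᵁ W.1) le_rfl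
  let σ := ev s (p ⁻¹ᵁ W.1) (Q.ι ⁻¹ᵁ W.1) (le_preimage p s hs W.1)
  choose k b hkb using fun a : A => hsur (σ a)
  refine ⟨G.sup k, fun n hn V hV hle => ?_⟩
  let Q' := π ⁻¹ᵁ Q
  let L := Q'.ι ⁻¹ᵁ V.1
  have hL : L ≤ (π ∣_ Q) ⁻¹ᵁ (Q.ι ⁻¹ᵁ W.1) := by
    rw [← Scheme.Hom.comp_preimage, morphismRestrict_ι, Scheme.Hom.comp_preimage]
    exact fun z hz => hV hz
  let ρ' := ev Q'.ι V.1 L le_rfl
  let σ' : A →+* Γ(Q', L) := (ev (π ∣_ Q) _ L hL).comp σ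
  have hρ : ∀ z, ev (π ∣_ Q) _ L hL (ρ z) = ρ' (ev π W.1 V.1 hV z) := fun z => by
    change ev (π ∣_ Q) _ L hL (ev Q.ι W.1 _ le_rfl z) = ev Q'.ι V.1 L le_rfl _
    rw [ev_ev, ev_ev, ev_congr (morphismRestrict_ι π Q)]
  have he' : (I.comap π).ideal V = Ideal.span {ev π W.1 V.1 hV h} := by
    rw [FpqcDescent.ideal_comap_appLE I π W V hV, he, Ideal.map_span, Set.image_singleton]
  have hinj : Function.Injective ρ' := (rho_facts (preimage_Q hQ π) V he').2.2 (nzd_of_span hc he')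
  have hgen : ∀ a ∈ G, σ' a ∈ ρ'.range := fun a ha => by
    have hk : k a ≤ n := (Finset.le_sup ha).trans hn
    have hmem : h ^ (n - k a) * b a ∈ (denom p s hs I n).ideal W :=
      mem_denom p s hs (e := h ^ n) (a := a) (by rw [ideal_pow_span he]; exact Ideal.subset_span rfl) (by
        rw [map_mul, hkb a, map_pow, map_pow, ← mul_assoc, ← pow_add, Nat.sub_add_cancel hk])
    have h1 : ev π W.1 V.1 hV (h ^ (n - k a) * b a) ∈ Ideal.span {ev π W.1 V.1 hV (h ^ n)} := by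
      have h3 := hle V (by rw [FpqcDescent.ideal_comap_appLE _ π W V hV]; exact Ideal.mem_map_of_mem _ hmem)
      rw [FpqcDescent.ideal_comap_appLE _ π W V hV, ideal_pow_span he, Ideal.map_span, Set.image_singleton] at h3
      exact h3
    obtain ⟨c, hc'⟩ := Ideal.mem_span_singleton'.1 h1
    refine ⟨c, (hu.pow n |>.map (ev (π ∣_ Q) _ L hL)).mul_left_cancel ?_⟩
    have h4 : ev (π ∣_ Q) _ L hL (ρ (h ^ (n - k a) * b a)) = ρ' (c * ev π W.1 V.1 hV (h ^ n)) := by rw [hρ, hc']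
    rw [map_mul ρ, hkb a, map_pow, ← mul_assoc, ← pow_add, Nat.sub_add_cancel hk, map_mul, map_mul ρ', ← hρ, map_pow ρ] at h4
    rw [mul_comm]
    exact h4.symm
  have hall : ∀ a : A, σ' a ∈ ρ'.range := fun a => by
    have ha : a ∈ Algebra.adjoin Γ(P, W.1) (G : Set A) := hG ▸ trivial
    induction ha using Algebra.adjoin_induction with
    | mem x hx => exact hgen x hx
    | algebraMap r =>
      refine ⟨ev π W.1 V.1 hV r, ?_⟩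
      change _ = ev (π ∣_ Q) _ L hL (ev s _ _ _ (ev p W.1 (p ⁻¹ᵁ W.1) le_rfl r))
      rw [sigma_p p s hs W.1 r]
      exact (hρ r).symm
    | add x y _ _ hx hy => rw [map_add]; exact add_mem hx hy
    | mul x y _ _ hx hy => rw [map_mul]; exact mul_mem hx hy
  choose ψ₀ hψ₀ using hall
  let ψ : A →+* Γ(P', V.1) :=
    { toFun := ψ₀
      map_one' := hinj (by rw [hψ₀, map_one, map_one])
      map_mul' := fun x y => hinj (by rw [map_mul, hψ₀, hψ₀, hψ₀, map_mul])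
      map_zero' := hinj (by rw [hψ₀, map_zero, map_zero])
      map_add' := fun x y => hinj (by rw [map_add, hψ₀, hψ₀, hψ₀, map_add]) }
  have hψp : ∀ r, ψ (ev p W.1 (p ⁻¹ᵁ W.1) le_rfl r) = ev π W.1 V.1 hV r := fun r => hinj (by
    change ρ' (ψ₀ _) = _
    rw [hψ₀, ← hρ]
    change ev (π ∣_ Q) _ L hL (σ _) = _
    exact congrArg (ev (π ∣_ Q) _ L hL) (sigma_p p s hs W.1 r))
  refine ⟨V.2.isoSpec.hom ≫ Spec.map (CommRingCat.ofHom ψ) ≫ (W.2.preimage p).fromSpec, ?_, ?_⟩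
  · rw [Category.assoc, Category.assoc, ← IsAffineOpen.SpecMap_appLE_fromSpec p W.2 (W.2.preimage p) le_rfl,
      ← Spec.map_comp_assoc, show p.appLE W.1 (p ⁻¹ᵁ W.1) le_rfl ≫ CommRingCat.ofHom ψ = π.appLE W.1 V.1 hV from
        CommRingCat.hom_ext (RingHom.ext hψp), IsAffineOpen.SpecMap_appLE_fromSpec π W.2 V.2 hV,
      IsAffineOpen.isoSpec_hom_fromSpec_assoc]
  · have hLa : IsAffineOpen L := isAffineOpen_preimage_of_span (preimage_Q hQ π) V he'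
    haveI : IsAffine L.toScheme := hLa
    let θ : L.toScheme ⟶ (Q' ⊓ V.1).toScheme := IsOpenImmersion.lift (Q' ⊓ V.1).ι (L.ι ≫ Q'.ι) (by
      rw [Scheme.Opens.range_ι]
      rintro _ ⟨z, rfl⟩
      exact ⟨(L.ι z).2, z.2⟩)
    have hθ : θ ≫ (Q' ⊓ V.1).ι = L.ι ≫ Q'.ι := IsOpenImmersion.lift_fac _ _ _
    haveI : Epi θ := by
      haveI : IsOpenImmersion (θ ≫ (Q' ⊓ V.1).ι) := by rw [hθ]; infer_instance
      haveI : IsOpenImmersion θ := IsOpenImmersion.of_comp θ (Q' ⊓ V.1).ι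
      haveI : Surjective θ := ⟨fun z => by
        have hz : (Q' ⊓ V.1).ι z ∈ Q' ∧ (Q' ⊓ V.1).ι z ∈ V.1 := z.2
        refine ⟨⟨⟨z.1, hz.1⟩, hz.2⟩, (Q' ⊓ V.1).ι.isOpenEmbedding.injective ?_⟩
        rw [← Scheme.Hom.comp_apply, hθ]
        rfl⟩
      haveI : IsIso θ := (isIso_iff_isOpenImmersion_and_epi_base θ).2 ⟨inferInstance, (TopCat.epi_iff_surjective _).2 θ.surjective⟩
      infer_instance
    rw [← cancel_epi θ]
    have h1 : θ ≫ P'.homOfLE (inf_le_left : Q' ⊓ V.1 ≤ Q') = L.ι := by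
      rw [← cancel_mono Q'.ι, Category.assoc, Scheme.homOfLE_ι, hθ]
    have hLV : L ≤ Q'.ι ⁻¹ᵁ V.1 := le_rfl
    have h2 : θ ≫ P'.homOfLE (inf_le_right : Q' ⊓ V.1 ≤ V.1) ≫ V.2.isoSpec.hom =
        hLa.isoSpec.hom ≫ Spec.map (Q'.ι.appLE V.1 L hLV) := by
      rw [← cancel_mono V.2.fromSpec, Category.assoc, Category.assoc, IsAffineOpen.isoSpec_hom_fromSpec,
        Scheme.homOfLE_ι, hθ, Category.assoc, IsAffineOpen.SpecMap_appLE_fromSpec Q'.ι V.2 hLa hLV,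
        IsAffineOpen.isoSpec_hom_fromSpec_assoc]
    have hLY : L ≤ ((π ∣_ Q) ≫ s) ⁻¹ᵁ (p ⁻¹ᵁ W.1) := fun z hz => le_preimage p s hs W.1 (hL hz)
    rw [reassoc_of% h1, reassoc_of% h2, ← Spec.map_comp_assoc,
      show CommRingCat.ofHom ψ ≫ Q'.ι.appLE V.1 L hLV = ((π ∣_ Q) ≫ s).appLE (p ⁻¹ᵁ W.1) L hLY from
        CommRingCat.hom_ext (RingHom.ext fun a => (hψ₀ a).trans (ev_ev (π ∣_ Q) s hL (le_preimage p s hs W.1) a)),
      IsAffineOpen.SpecMap_appLE_fromSpec _ (W.2.preimage p) hLa hLY, IsAffineOpen.isoSpec_hom_fromSpec_assoc]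

/-- absorbed denominators of all orders give an extension -/
theorem exists_extension [LocallyOfFiniteType p] [CompactSpace P']
    (hle : ∀ n, (denom p s hs I n).comap π ≤ (I ^ n).comap π) :
    ∃ f : P' ⟶ Y, f ≫ p = π ∧ (π ⁻¹ᵁ Q).ι ≫ f = (π ∣_ Q) ≫ s := by
  have key : ∀ x : P', ∃ (V : P'.affineOpens) (f : V.1.toScheme ⟶ Y), x ∈ V.1 ∧ f ≫ p = V.1.ι ≫ π ∧
      P'.homOfLE (inf_le_right : π ⁻¹ᵁ Q ⊓ V.1 ≤ V.1) ≫ f =
        P'.homOfLE (inf_le_left : π ⁻¹ᵁ Q ⊓ V.1 ≤ π ⁻¹ᵁ Q) ≫ (π ∣_ Q) ≫ s := fun x => by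
    obtain ⟨W, hxW, h, -, he⟩ := hI (π x)
    obtain ⟨n₀, hn⟩ := exists_local p s hs hI hQ π hc W he
    obtain ⟨V, hV, hxV, hVW⟩ := exists_isAffineOpen_mem_and_subset (X := P') (x := x) (U := π ⁻¹ᵁ W.1) hxW
    obtain ⟨f, hf1, hf2⟩ := hn n₀ le_rfl ⟨V, hV⟩ hVW (hle n₀)
    exact ⟨⟨V, hV⟩, f, hxV, hf1, hf2⟩
  choose V f hxV hf hfQ using key
  let 𝒰 : P'.OpenCover := P'.openCoverOfIsOpenCover (fun x => (V x).1)
    (eq_top_iff.2 fun x _ => Opens.mem_iSup.2 ⟨x, hxV x⟩)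
  have hag : ∀ x y, P'.homOfLE (inf_le_left : (V x).1 ⊓ (V y).1 ≤ (V x).1) ≫ f x =
      P'.homOfLE (inf_le_right : (V x).1 ⊓ (V y).1 ≤ (V y).1) ≫ f y := fun x y => by
    haveI := schDominant (preimage_Q hQ π) hc ((V x).1 ⊓ (V y).1)
    refine Chow.ext_of_dense (P'.homOfLE (inf_le_right : π ⁻¹ᵁ Q ⊓ ((V x).1 ⊓ (V y).1) ≤ (V x).1 ⊓ (V y).1)) p _ _ ?_ ?_
    · rw [Category.assoc, Category.assoc, hf, hf, Scheme.homOfLE_ι_assoc, Scheme.homOfLE_ι_assoc]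
    · have hx : π ⁻¹ᵁ Q ⊓ ((V x).1 ⊓ (V y).1) ≤ π ⁻¹ᵁ Q ⊓ (V x).1 := inf_le_inf_left _ inf_le_left
      have hy : π ⁻¹ᵁ Q ⊓ ((V x).1 ⊓ (V y).1) ≤ π ⁻¹ᵁ Q ⊓ (V y).1 := inf_le_inf_left _ inf_le_right
      rw [Scheme.homOfLE_homOfLE_assoc, Scheme.homOfLE_homOfLE_assoc,
        ← Scheme.homOfLE_homOfLE_assoc P' hx inf_le_right, hfQ,
        ← Scheme.homOfLE_homOfLE_assoc P' hy inf_le_right, hfQ, Scheme.homOfLE_homOfLE_assoc, Scheme.homOfLE_homOfLE_assoc]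
  let F : P' ⟶ Y := 𝒰.glueMorphisms f fun x y => by
    have sq : IsPullback (P'.homOfLE (inf_le_left : (V x).1 ⊓ (V y).1 ≤ (V x).1))
        (P'.homOfLE (inf_le_right : (V x).1 ⊓ (V y).1 ≤ (V y).1)) (V x).1.ι (V y).1.ι :=
      (isPullback_opens_inf (V x).1 (V y).1)
    rw [← cancel_epi sq.isoPullback.hom]
    erw [sq.isoPullback_hom_fst_assoc, sq.isoPullback_hom_snd_assoc]
    exact hag x y
  have hF : ∀ x, (V x).1.ι ≫ F = f x := fun x => 𝒰.ι_glueMorphisms f _ x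
  refine ⟨F, Scheme.Cover.hom_ext 𝒰 _ _ fun x => ?_, ?_⟩
  · change (V x).1.ι ≫ F ≫ p = (V x).1.ι ≫ π
    rw [← Category.assoc, hF, hf]
  · let Q' := π ⁻¹ᵁ Q
    refine Scheme.Cover.hom_ext (Q'.toScheme.openCoverOfIsOpenCover (fun x => Q'.ι ⁻¹ᵁ (V x).1)
      (eq_top_iff.2 fun z _ => Opens.mem_iSup.2 ⟨Q'.ι z, hxV _⟩)) _ _ fun x => ?_
    change (Q'.ι ⁻¹ᵁ (V x).1).ι ≫ Q'.ι ≫ F = (Q'.ι ⁻¹ᵁ (V x).1).ι ≫ (π ∣_ Q) ≫ s
    let θ : (Q'.ι ⁻¹ᵁ (V x).1).toScheme ⟶ (Q' ⊓ (V x).1).toScheme :=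
      IsOpenImmersion.lift (Q' ⊓ (V x).1).ι ((Q'.ι ⁻¹ᵁ (V x).1).ι ≫ Q'.ι) (by
        rw [Scheme.Opens.range_ι]
        rintro _ ⟨z, rfl⟩
        exact ⟨((Q'.ι ⁻¹ᵁ (V x).1).ι z).2, z.2⟩)
    have hθ : θ ≫ (Q' ⊓ (V x).1).ι = (Q'.ι ⁻¹ᵁ (V x).1).ι ≫ Q'.ι := IsOpenImmersion.lift_fac _ _ _
    have h1 : θ ≫ P'.homOfLE (inf_le_left : Q' ⊓ (V x).1 ≤ Q') = (Q'.ι ⁻¹ᵁ (V x).1).ι := by
      rw [← cancel_mono Q'.ι, Category.assoc, Scheme.homOfLE_ι, hθ]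
    rw [← reassoc_of% hθ, ← Scheme.homOfLE_ι_assoc P' (inf_le_right : Q' ⊓ (V x).1 ≤ (V x).1), hF, hfQ x, reassoc_of% h1]

end Map

end Groth.Agent.ExtLocus
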